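import Groth.Agent.GenPosLib.Mat

/-!
A free submodule in general position, and the quotient by it.
-/

set_option autoImplicit false
set_option maxHeartbeats 1000000
universe u
open scoped Matrix

namespace Groth.Agent.GenPosLib

variable {A : Type u} [CommRing A] {M : Type u} [AddCommGroup M] [Module A M]

/-- pairing matrix -/
def pairing {n m : ℕ} (ψ : Fin n → (M →ₗ[A] A)) (y : Fin m → M) : Matrix (Fin n) (Fin m) A :=
  Matrix.of fun a i => ψ a (y i)

theorem pairing_mul {n m l : ℕ} (ψ : Fin n → (M →ₗ[A] A)) (y : Fin m → M)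
    (E : Matrix (Fin m) (Fin l) A) :
    pairing ψ y * E = pairing ψ (fun j => ∑ i, E i j • y i) := by
  ext a j
  simp [pairing, Matrix.mul_apply, map_sum, mul_comm]

theorem rk_start [IsNoetherianRing A] [Module.Finite A M] (p : Ideal A) [p.IsPrime] {r n m : ℕ}
    (e : LocalizedModule p.primeCompl M ≃ₗ[Localization.AtPrime p] (Fin r → Localization.AtPrime p))
    (ψ : Fin n → (M →ₗ[A] A)) (hψ : Submodule.span A (Set.range ψ) = ⊤)
    (y : Fin m → M) (hy : Submodule.span A (Set.range y) = ⊤) :
    r ≤ rk p (pairing ψ y) := by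
  classical
  haveI : Module.FinitePresentation A M := Module.finitePresentation_of_finite A M
  have hlift : ∀ i : Fin r, ∃ (h : M →ₗ[A] A) (s : p.primeCompl), ∀ x : M,
      algebraMap A (Localization.AtPrime p) (h x) = algebraMap A _ (s : A) *
        e (LocalizedModule.mkLinearMap p.primeCompl M x) i := by
    intro i
    obtain ⟨h, s, hs⟩ := Module.FinitePresentation.exists_lift_of_isLocalizedModule p.primeCompl
      (Algebra.linearMap A (Localization.AtPrime p))
      (((LinearMap.proj i).comp e.toLinearMap).restrictScalars A ∘ₗ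
        LocalizedModule.mkLinearMap p.primeCompl M)
    refine ⟨h, s, fun x => ?_⟩
    have := LinearMap.congr_fun hs x
    simp only [LinearMap.comp_apply, Algebra.linearMap_apply, LinearMap.smul_apply,
      LinearMap.coe_restrictScalars, LinearMap.proj_apply, LinearEquiv.coe_coe,
      Submonoid.smul_def] at this
    rw [this, Algebra.smul_def]
  choose φ s hφ using hlift
  have hpre : ∀ j : Fin r, ∃ (x : M) (σ : p.primeCompl), e (LocalizedModule.mkLinearMap p.primeCompl M x) =
      algebraMap A (Localization.AtPrime p) (σ : A) • Pi.single j 1 := by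
    intro j
    obtain ⟨⟨x, σ⟩, hx⟩ := IsLocalizedModule.surj p.primeCompl
      (LocalizedModule.mkLinearMap p.primeCompl M) (e.symm (Pi.single j 1))
    refine ⟨x, σ, ?_⟩
    rw [← hx, Submonoid.smul_def, ← algebraMap_smul (Localization.AtPrime p) (σ : A), map_smul,
      LinearEquiv.apply_symm_apply]
  choose x σ hx using hpre
  have hB : ∀ i, ∃ B : Fin n → A, ∑ a, B a • ψ a = φ i := fun i =>
    Submodule.mem_span_range_iff_exists_fun A |>.mp (hψ ▸ Submodule.mem_top)
  choose B hB using hB
  have hC : ∀ j, ∃ C : Fin m → A, ∑ l, C l • y l = x j := fun j =>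
    Submodule.mem_span_range_iff_exists_fun A |>.mp (hy ▸ Submodule.mem_top)
  choose C hC using hC
  refine le_rk_of_det_not_mem p (pairing ψ y) (Matrix.of B) (Matrix.of fun l j => C j l) ?_
  have hD : Matrix.of B * pairing ψ y * Matrix.of (fun l j => C j l) =
      Matrix.of fun i j => φ i (x j) := by
    rw [Matrix.mul_assoc, pairing_mul]
    ext i j
    simp only [Matrix.of_apply, hC, Matrix.mul_apply, pairing]
    rw [← hB i]
    simp
  have hdiag : (Matrix.of fun i j => φ i (x j)).map (algebraMap A (Localization.AtPrime p)) =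
      Matrix.diagonal (fun i => algebraMap A _ ((s i : A) * σ i)) := by
    ext i j
    simp only [Matrix.map_apply, Matrix.of_apply, hφ, hx, Pi.smul_apply, smul_eq_mul, map_mul]
    by_cases hij : i = j
    · subst hij; simp
    · simp [Matrix.diagonal_apply_ne _ hij, Pi.single_eq_of_ne hij]
  rw [hD]
  intro hmem
  have h1 : algebraMap A (Localization.AtPrime p) (Matrix.of fun i j => φ i (x j)).det ∈
      IsLocalRing.maximalIdeal (Localization.AtPrime p) :=
    (IsLocalization.AtPrime.to_map_mem_maximal_iff _ p _).mpr hmem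
  rw [RingHom.map_det, RingHom.mapMatrix_apply, hdiag, Matrix.det_diagonal] at h1
  obtain ⟨i, -, hi⟩ := (Ideal.IsPrime.prod_mem_iff).mp h1
  exact p.primeCompl.mul_mem (s i).2 (σ i).2
    ((IsLocalization.AtPrime.to_map_mem_maximal_iff _ p _).mp hi)

theorem exists_retraction {n s : ℕ} (ψ : Fin n → (M →ₗ[A] A)) (y : Fin s → M)
    (p : Ideal A) [p.IsPrime] (h : s ≤ rk p (pairing ψ y)) :
    ∃ (π : M →ₗ[A] (Fin s → A)) (D : A), D ∉ p ∧
      π ∘ₗ Fintype.linearCombination A y = D • LinearMap.id := by
  classical
  obtain ⟨B, C, hBC⟩ := exists_det_not_mem p (pairing ψ y) s h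
  rw [Matrix.det_mul] at hBC
  set N := B * pairing ψ y with hN
  refine ⟨(Matrix.mulVecLin (N.adjugate * B)).comp (LinearMap.pi ψ), N.det,
    fun h => hBC (Ideal.mul_mem_right _ _ h), ?_⟩
  refine LinearMap.ext fun v => ?_
  have hv : LinearMap.pi ψ (Fintype.linearCombination A y v) = pairing ψ y *ᵥ v := by
    ext a
    simp [pairing, Matrix.mulVec, dotProduct, Fintype.linearCombination_apply, map_sum, mul_comm]
  rw [LinearMap.comp_apply, LinearMap.comp_apply, hv, Matrix.mulVecLin_apply, Matrix.mulVec_mulVec,
    Matrix.mul_assoc, ← hN, Matrix.adjugate_mul, Matrix.smul_mulVec, Matrix.one_mulVec]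
  rfl

theorem linearCombination_injective [IsNoetherianRing A] {s : ℕ} (y : Fin s → M)
    (h : ∀ p ∈ associatedPrimes A A, ∃ (π : M →ₗ[A] (Fin s → A)) (D : A), D ∉ p ∧
      π ∘ₗ Fintype.linearCombination A y = D • LinearMap.id) :
    Function.Injective (Fintype.linearCombination A y) := by
  rw [← LinearMap.ker_eq_bot, Submodule.eq_bot_iff]
  intro v hv
  funext i
  by_contra hi
  obtain ⟨P, hP, hle⟩ := exists_le_isAssociatedPrime_of_isNoetherianRing A (v i) hi
  obtain ⟨π, D, hD, hπ⟩ := h P hP
  refine hD (hle ?_)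
  rw [Submodule.mem_colon_singleton, Submodule.mem_bot]
  have h1 := LinearMap.congr_fun hπ v
  rw [LinearMap.comp_apply, LinearMap.mem_ker.mp hv, map_zero] at h1
  exact (congrFun h1 i).symm

theorem quotient_free [IsNoetherianRing A] [Module.Finite A M] {s r k : ℕ} (hr : s + k = r)
    (y : Fin s → M) (p : Ideal A) [p.IsPrime]
    (e : LocalizedModule p.primeCompl M ≃ₗ[Localization.AtPrime p] (Fin r → Localization.AtPrime p))
    (π : M →ₗ[A] (Fin s → A)) (D : A) (hD : D ∉ p)
    (hπ : π ∘ₗ Fintype.linearCombination A y = D • LinearMap.id) :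
    Nonempty (LocalizedModule p.primeCompl
      (M ⧸ LinearMap.range (Fintype.linearCombination A y)) ≃ₗ[Localization.AtPrime p]
        (Fin k → Localization.AtPrime p)) := by
  classical
  set F := Fintype.linearCombination A y with hF
  set N := LinearMap.range F with hN
  set S := p.primeCompl with hS
  set R := Localization.AtPrime p with hR
  have hπy : ∀ j, π (y j) = D • Pi.single j 1 := fun j => by
    have := LinearMap.congr_fun hπ (Pi.single j 1)
    simpa [hF, Fintype.linearCombination_apply_single] using this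
  let σ₀ : (M ⧸ N) →ₗ[A] M := N.liftQ (D • LinearMap.id - F ∘ₗ π) (by
    rintro _ ⟨v, rfl⟩
    have hv : π (F v) = D • v := LinearMap.congr_fun hπ v
    simp [hv, map_smul])
  let θ : LocalizedModule S M →ₗ[R] LocalizedModule S (M ⧸ N) := LocalizedModule.map S N.mkQ
  let σ : LocalizedModule S (M ⧸ N) →ₗ[R] LocalizedModule S M := LocalizedModule.map S σ₀
  let ψ : LocalizedModule S M →ₗ[R] (Fin s → R) := LinearMap.pi fun j =>
    (IsLocalizedModule.map S (LocalizedModule.mkLinearMap S M) (Algebra.linearMap A R)
      ((LinearMap.proj j).comp π)).extendScalarsOfIsLocalization S R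
  let G : (Fin s → R) →ₗ[R] LocalizedModule S M :=
    Fintype.linearCombination R (fun j => LocalizedModule.mkLinearMap S M (y j))
  set u := algebraMap A R D with hu
  have hψ : ∀ x j, ψ (LocalizedModule.mkLinearMap S M x) j = algebraMap A R (π x j) := by
    intro x j
    exact IsLocalizedModule.map_apply S (LocalizedModule.mkLinearMap S M) (Algebra.linearMap A R)
      ((LinearMap.proj j).comp π) x
  have hθ : ∀ x, θ (LocalizedModule.mkLinearMap S M x) =
      LocalizedModule.mkLinearMap S (M ⧸ N) (N.mkQ x) := fun x =>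
    LocalizedModule.map_mk S N.mkQ x 1
  have hσ : ∀ q, σ (LocalizedModule.mkLinearMap S (M ⧸ N) q) =
      LocalizedModule.mkLinearMap S M (σ₀ q) := fun q =>
    LocalizedModule.map_mk S σ₀ q 1
  have hG : ∀ v : Fin s → A, G (fun j => algebraMap A R (v j)) = LocalizedModule.mkLinearMap S M (F v) := by
    intro v
    simp [G, hF, Fintype.linearCombination_apply, map_sum]
  let f : LocalizedModule S M →ₗ[R] (Fin s → R) × LocalizedModule S (M ⧸ N) := ψ.prod θ
  let g : (Fin s → R) × LocalizedModule S (M ⧸ N) →ₗ[R] LocalizedModule S M := G.coprod σ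
  have hgf : g ∘ₗ f = u • LinearMap.id := by
    apply LinearMap.restrictScalars_injective A
    refine IsLocalizedModule.ext S (LocalizedModule.mkLinearMap S M)
      (IsLocalizedModule.map_units (LocalizedModule.mkLinearMap S M)) (LinearMap.ext fun x => ?_)
    show G (ψ (LocalizedModule.mkLinearMap S M x)) + σ (θ (LocalizedModule.mkLinearMap S M x)) =
      u • LocalizedModule.mkLinearMap S M x
    rw [show ψ (LocalizedModule.mkLinearMap S M x) = fun j => algebraMap A R (π x j) from
      funext (hψ x), hG, hθ, hσ, ← map_add, hu, algebraMap_smul, ← map_smul]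
    congr 1
    simp [σ₀]
  have h00 : ψ ∘ₗ G = u • LinearMap.id := by
    apply LinearMap.pi_ext'
    intro j
    apply LinearMap.ext_ring
    ext l
    simp only [LinearMap.comp_apply, LinearMap.coe_single, G,
      Fintype.linearCombination_apply_single, one_smul, LinearMap.smul_apply, LinearMap.id_apply,
      hψ, hπy, hu, Pi.smul_apply, smul_eq_mul]
    by_cases hl : l = j
    · subst hl; simp
    · simp [Pi.single_eq_of_ne hl]
  have h10 : θ ∘ₗ G = 0 := by
    apply LinearMap.pi_ext'
    intro j
    apply LinearMap.ext_ring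
    simp only [LinearMap.comp_apply, LinearMap.coe_single, G,
      Fintype.linearCombination_apply_single, one_smul, hθ, LinearMap.zero_apply]
    have : N.mkQ (y j) = 0 := (Submodule.Quotient.mk_eq_zero N).mpr
      ⟨Pi.single j 1, by simp [hF, Fintype.linearCombination_apply_single]⟩
    rw [this, map_zero]
  have h01 : ψ ∘ₗ σ = 0 := by
    apply LinearMap.restrictScalars_injective A
    refine IsLocalizedModule.ext S (LocalizedModule.mkLinearMap S (M ⧸ N)) ?_
      (LinearMap.ext fun q => ?_)
    · intro t
      rw [Module.End.isUnit_iff]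
      have ht : IsUnit (algebraMap A R t) := IsLocalization.map_units R t
      exact ((Module.End.isUnit_iff _).mp (ht.map (algebraMap R (Module.End R (Fin s → R))))).comp
        Function.bijective_id |> fun h => by
          convert h using 1
          funext v
          simp [Module.algebraMap_end_apply, algebraMap_smul]
    obtain ⟨x, rfl⟩ := N.mkQ_surjective q
    simp only [LinearMap.comp_apply, LinearMap.coe_restrictScalars, hσ, LinearMap.zero_apply]
    funext j
    rw [hψ]
    have : π (σ₀ (N.mkQ x)) = 0 := by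
      have hv : π (F (π x)) = D • π x := LinearMap.congr_fun hπ (π x)
      simp [σ₀, hv, map_smul]
    rw [this]; simp
  have h11 : θ ∘ₗ σ = u • LinearMap.id := by
    apply LinearMap.restrictScalars_injective A
    refine IsLocalizedModule.ext S (LocalizedModule.mkLinearMap S (M ⧸ N))
      (IsLocalizedModule.map_units (LocalizedModule.mkLinearMap S (M ⧸ N)))
      (LinearMap.ext fun q => ?_)
    obtain ⟨x, rfl⟩ := N.mkQ_surjective q
    simp only [LinearMap.comp_apply, LinearMap.coe_restrictScalars, hσ, hθ, LinearMap.smul_apply,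
      LinearMap.id_apply, hu, algebraMap_smul, ← map_smul]
    congr 1
    have : N.mkQ (F (π x)) = 0 := (Submodule.Quotient.mk_eq_zero N).mpr ⟨π x, rfl⟩
    simp [σ₀, map_sub, map_smul, this]
  have hfg : f ∘ₗ g = u • LinearMap.id := by
    refine LinearMap.ext fun ⟨v, q⟩ => ?_
    have e1 := LinearMap.congr_fun h00 v
    have e2 := LinearMap.congr_fun h10 v
    have e3 := LinearMap.congr_fun h01 q
    have e4 := LinearMap.congr_fun h11 q
    simp only [LinearMap.comp_apply, LinearMap.smul_apply, LinearMap.id_apply,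
      LinearMap.zero_apply] at e1 e2 e3 e4
    simp [f, g, e1, e2, e3, e4, Prod.ext_iff, map_add]
  have hunit : IsUnit u := IsLocalization.map_units R (⟨D, hD⟩ : S)
  obtain ⟨w, hw⟩ := hunit
  let eq1 : LocalizedModule S M ≃ₗ[R] (Fin s → R) × LocalizedModule S (M ⧸ N) :=
    LinearEquiv.ofLinear f ((↑w⁻¹ : R) • g)
      (by rw [LinearMap.comp_smul, hfg, smul_smul, ← hw, Units.inv_mul, one_smul])
      (by rw [LinearMap.smul_comp, hgf, smul_smul, ← hw, Units.inv_mul, one_smul])
  haveI : Module.Free R (LocalizedModule S M) := Module.Free.of_equiv e.symm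
  haveI : Module.Projective R ((Fin s → R) × LocalizedModule S (M ⧸ N)) :=
    Module.Projective.of_equiv eq1
  haveI : Module.Projective R (LocalizedModule S (M ⧸ N)) :=
    Module.Projective.of_split (LinearMap.inr R (Fin s → R) _) (LinearMap.snd R _ _)
      ((LinearMap.snd_comp_inr _ _ _))
  haveI : Module.Finite R (LocalizedModule S (M ⧸ N)) :=
    Module.Finite.of_isLocalizedModule S (LocalizedModule.mkLinearMap S (M ⧸ N))
  haveI : Module.Free R (LocalizedModule S (M ⧸ N)) := Module.free_of_flat_of_isLocalRing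
  have hk : Module.finrank R (LocalizedModule S (M ⧸ N)) = k := by
    have h1 := (eq1.symm.trans e).finrank_eq
    rw [Module.finrank_prod, Module.finrank_fin_fun, Module.finrank_fin_fun] at h1
    omega
  exact ⟨(Module.finBasisOfFinrankEq R _ hk).equivFun⟩

theorem main [IsNoetherianRing A] [Module.Finite A M] (k r : ℕ) (hkr : k ≤ r)
    (hAss : ∀ p ∈ associatedPrimes A A, p.height ≤ k)
    (hM : ∀ p : PrimeSpectrum A, p.asIdeal.height ≤ k →
      Nonempty (LocalizedModule p.asIdeal.primeCompl M ≃ₗ[Localization.AtPrime p.asIdeal]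
        (Fin r → Localization.AtPrime p.asIdeal))) :
    ∃ N : Submodule A M, Nonempty (N ≃ₗ[A] (Fin (r - k) → A)) ∧
      ∀ p : PrimeSpectrum A, p.asIdeal.height ≤ k →
        Nonempty (LocalizedModule p.asIdeal.primeCompl (M ⧸ N) ≃ₗ[Localization.AtPrime p.asIdeal]
          (Fin k → Localization.AtPrime p.asIdeal)) := by
  classical
  obtain ⟨m, y₀, hy₀⟩ := Module.Finite.exists_fin (R := A) (M := M)
  obtain ⟨n, ψ, hψ⟩ := Module.Finite.exists_fin (R := A) (M := M →ₗ[A] A)
  set s := r - k with hs
  let y : Fin (s + m) → M := Fin.append (fun _ => 0) y₀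
  have hy : Submodule.span A (Set.range y) = ⊤ := by
    rw [eq_top_iff, ← hy₀, Submodule.span_le]
    rintro _ ⟨i, rfl⟩
    exact Submodule.subset_span ⟨Fin.natAdd s i, Fin.append_right _ _ i⟩
  obtain ⟨E, hE⟩ := iterate k r hkr s m (pairing ψ y) (fun p hp => by
    obtain ⟨e⟩ := hM p hp
    have := rk_start p.asIdeal e ψ hψ y hy
    omega)
  let z : Fin s → M := fun j => ∑ i, E i j • y i
  have hz : ∀ p : PrimeSpectrum A, p.asIdeal.height ≤ k →
      ∃ (π : M →ₗ[A] (Fin s → A)) (D : A), D ∉ p.asIdeal ∧
        π ∘ₗ Fintype.linearCombination A z = D • LinearMap.id := by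
    intro p hp
    refine exists_retraction ψ z p.asIdeal ?_
    have h := hE p hp
    rw [pairing_mul] at h
    change _ ≤ rk p.asIdeal (pairing ψ z) at h
    have : p.asIdeal.height.toNat ≤ k := ENat.toNat_le_of_le_coe hp
    omega
  have hinj : Function.Injective (Fintype.linearCombination A z) :=
    linearCombination_injective z fun P hP => hz ⟨P, hP.isPrime⟩ (hAss P hP)
  refine ⟨LinearMap.range (Fintype.linearCombination A z),
    ⟨(LinearEquiv.ofInjective _ hinj).symm⟩, fun p hp => ?_⟩
  obtain ⟨π, D, hD, hπ⟩ := hz p hp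
  obtain ⟨e⟩ := hM p hp
  exact quotient_free (Nat.sub_add_cancel hkr) z p.asIdeal e π D hD hπ

end Groth.Agent.GenPosLib
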