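import Mathlib

/-!
General position of matrices over a Noetherian ring: residual ranks at primes and the
"basic element" style column operation.
-/

set_option autoImplicit false
set_option linter.unusedSectionVars false
universe u
open scoped Matrix

namespace Groth.Agent.GenPosLib

section field

variable {K : Type*} [Field K] {n : ℕ}

/-- the matrix sending `x` to `(x, a ⬝ x)` -/
def elim {R : Type*} [CommRing R] {t : ℕ} (a : Fin t → R) : Matrix (Fin (t + 1)) (Fin t) R :=
  Matrix.of fun i j => Fin.lastCases (a j) (fun i' => if i' = j then (1 : R) else 0) i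

theorem elim_map {R R' : Type*} [CommRing R] [CommRing R'] {t : ℕ} (f : R →+* R') (a : Fin t → R) :
    (elim a).map f = elim (fun j => f (a j)) := by
  ext i j
  induction i using Fin.lastCases <;> simp [elim, apply_ite f]

theorem elim_mulVec {R : Type*} [CommRing R] {t : ℕ} (a x : Fin t → R) :
    elim a *ᵥ x = Fin.snoc x (∑ j, a j * x j) := by
  ext i
  induction i using Fin.lastCases <;>
    simp [elim, Matrix.mulVec, dotProduct, Finset.sum_ite_eq]

theorem mem_range_elim {R : Type*} [CommRing R] {t : ℕ} (a : Fin t → R) (y : Fin (t + 1) → R)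
    (hy : y (Fin.last t) = ∑ j, a j * y j.castSucc) :
    y ∈ LinearMap.range (elim a).mulVecLin := by
  refine ⟨fun j => y j.castSucc, ?_⟩
  rw [Matrix.mulVecLin_apply, elim_mulVec, ← hy]
  exact Fin.snoc_init_self y

theorem rank_le_rank_mul_elim_add_one {t : ℕ} (G : Matrix (Fin n) (Fin (t + 1)) K) (a : Fin t → K) :
    G.rank ≤ (G * elim a).rank + 1 := by
  classical
  set v := G.mulVecLin (Pi.single (Fin.last t) (1 : K))
  have h : LinearMap.range G.mulVecLin ≤
      LinearMap.range (G * elim a).mulVecLin ⊔ Submodule.span K {v} := by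
    rintro _ ⟨y, rfl⟩
    set d := y (Fin.last t) - ∑ j, a j * y j.castSucc
    have hz : y - d • Pi.single (Fin.last t) (1 : K) ∈ LinearMap.range (elim a).mulVecLin := by
      refine mem_range_elim a _ ?_
      simp [d, (Fin.castSucc_lt_last _).ne]
    obtain ⟨x, hx⟩ := hz
    refine Submodule.mem_sup.mpr ⟨_, ⟨x, rfl⟩, d • v,
      Submodule.smul_mem _ _ (Submodule.subset_span rfl), ?_⟩
    rw [Matrix.mulVecLin_mul, LinearMap.comp_apply, hx, map_sub, map_smul, sub_add_cancel]
  have h1 := Submodule.finrank_mono h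
  have h2 := Submodule.finrank_add_le_finrank_add_finrank
    (LinearMap.range (G * elim a).mulVecLin) (Submodule.span K {v})
  have h3 : Module.finrank K (Submodule.span K {v}) ≤ 1 :=
    (finrank_span_le_card ({v} : Set (Fin n → K))).trans (by simp)
  rw [Matrix.rank, Matrix.rank]
  omega

theorem rank_le_rank_mul_elim {t : ℕ} (G : Matrix (Fin n) (Fin (t + 1)) K) (a : Fin t → K)
    (c : Fin (t + 1) → K) (hc : G *ᵥ c = 0)
    (hca : c (Fin.last t) - ∑ j, a j * c j.castSucc ≠ 0) :
    G.rank ≤ (G * elim a).rank := by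
  rw [Matrix.rank, Matrix.rank]
  refine Submodule.finrank_mono ?_
  rintro _ ⟨y, rfl⟩
  set d := c (Fin.last t) - ∑ j, a j * c j.castSucc with hd
  set e := (y (Fin.last t) - ∑ j, a j * y j.castSucc) / d with he
  have hz : y - e • c ∈ LinearMap.range (elim a).mulVecLin := by
    refine mem_range_elim a _ ?_
    have : e * d = y (Fin.last t) - ∑ j, a j * y j.castSucc := div_mul_cancel₀ _ hca
    simp only [Pi.sub_apply, Pi.smul_apply, smul_eq_mul, mul_sub, Finset.sum_sub_distrib]
    rw [hd, mul_sub, Finset.mul_sum] at this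
    have hs : ∀ j, a j * (e * c (Fin.castSucc j)) = e * (a j * c (Fin.castSucc j)) := fun j => by ring
    simp only [hs]
    linear_combination -this
  obtain ⟨x, hx⟩ := hz
  refine ⟨x, ?_⟩
  rw [Matrix.mulVecLin_mul, LinearMap.comp_apply, hx, map_sub, map_smul]
  simp [hc]

theorem exists_kernel_vector {t : ℕ} (G : Matrix (Fin n) (Fin (t + 1)) K) (h : G.rank ≤ t) :
    ∃ c : Fin (t + 1) → K, c ≠ 0 ∧ G *ᵥ c = 0 := by
  by_contra hh
  push Not at hh
  have hinj : Function.Injective G.mulVecLin := by
    rw [← LinearMap.ker_eq_bot, Submodule.eq_bot_iff]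
    intro c hc
    by_contra h0
    exact hh c h0 (LinearMap.mem_ker.mp hc)
  rw [Matrix.rank, LinearMap.finrank_range_of_inj hinj, Module.finrank_fin_fun] at h
  omega

theorem exists_sandwich {m : ℕ} (G : Matrix (Fin n) (Fin m) K) (s : ℕ) (h : s ≤ G.rank) :
    ∃ (B : Matrix (Fin s) (Fin n) K) (C : Matrix (Fin m) (Fin s) K), B * G * C = 1 := by
  classical
  obtain ⟨v, hv⟩ := exists_linearIndependent_of_le_finrank
    (R := K) (M := LinearMap.range G.mulVecLin) h
  choose x hx using fun i => (v i).2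
  let C : Matrix (Fin m) (Fin s) K := Matrix.of fun i j => x j i
  have hinj : Function.Injective (G * C).mulVecLin := by
    rw [Matrix.coe_mulVecLin, Matrix.mulVec_injective_iff]
    have : (G * C).col = (LinearMap.range G.mulVecLin).subtype ∘ v := by
      funext j i
      have : G *ᵥ x j = (v j : Fin n → K) := hx j
      simp only [Matrix.col_apply, Matrix.mul_apply, Function.comp_apply, Submodule.subtype_apply,
        ← this, Matrix.mulVec, dotProduct, C, Matrix.of_apply]
    rw [this]
    exact hv.map' _ (Submodule.ker_subtype _)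
  obtain ⟨g, hg⟩ := (G * C).mulVecLin.exists_leftInverse_of_injective (LinearMap.ker_eq_bot.mpr hinj)
  refine ⟨LinearMap.toMatrix' g, C, ?_⟩
  have h1 : LinearMap.toMatrix' (g ∘ₗ (G * C).mulVecLin) = 1 := by
    rw [hg, LinearMap.toMatrix'_id]
  rw [LinearMap.toMatrix'_comp, ← Matrix.toLin'_apply', LinearMap.toMatrix'_toLin'] at h1
  rw [Matrix.mul_assoc, h1]

end field

section ring

variable {A : Type u} [CommRing A] {n : ℕ}

/-- The rank of a matrix at the residue field of a prime. -/
noncomputable def rk (p : Ideal A) [p.IsPrime] {m : ℕ} (G : Matrix (Fin n) (Fin m) A) : ℕ :=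
  (G.map (algebraMap A p.ResidueField)).rank

/-- The ideal generated by the determinants of `s × s` compressions of `G`. -/
def minorIdeal (s : ℕ) {m : ℕ} (G : Matrix (Fin n) (Fin m) A) : Ideal A :=
  Ideal.span {d | ∃ (B : Matrix (Fin s) (Fin n) A) (C : Matrix (Fin m) (Fin s) A),
    d = (B * G * C).det}

theorem exists_scaled_lift (p : Ideal A) [p.IsPrime] {a b : ℕ}
    (B₀ : Matrix (Fin a) (Fin b) p.ResidueField) :
    ∃ (d : A) (B : Matrix (Fin a) (Fin b) A), d ∉ p ∧
      B.map (algebraMap A p.ResidueField) = algebraMap A p.ResidueField d • B₀ := by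
  obtain ⟨⟨d, hd⟩, hB⟩ := IsLocalization.exist_integer_multiples_of_finite
    (nonZeroDivisors (A ⧸ p)) (fun ij : Fin a × Fin b => B₀ ij.1 ij.2)
  obtain ⟨d', rfl⟩ := Ideal.Quotient.mk_surjective d
  choose q hq using hB
  choose q' hq' using fun ij => Ideal.Quotient.mk_surjective (q ij)
  refine ⟨d', Matrix.of fun i j => q' (i, j), ?_, ?_⟩
  · intro h
    exact nonZeroDivisors.ne_zero hd (Ideal.Quotient.eq_zero_iff_mem.mpr h)
  · ext i j
    have := hq (i, j)
    simp only at this
    simp only [Matrix.map_apply, Matrix.of_apply, Matrix.smul_apply, smul_eq_mul,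
      IsScalarTower.algebraMap_apply A (A ⧸ p) p.ResidueField, Ideal.Quotient.algebraMap_eq,
      hq', this]
    exact Algebra.smul_def _ _

theorem exists_det_not_mem (p : Ideal A) [p.IsPrime] {m : ℕ} (G : Matrix (Fin n) (Fin m) A)
    (s : ℕ) (h : s ≤ rk p G) :
    ∃ (B : Matrix (Fin s) (Fin n) A) (C : Matrix (Fin m) (Fin s) A), (B * G * C).det ∉ p := by
  obtain ⟨B₀, C₀, hBC⟩ := exists_sandwich _ s h
  obtain ⟨b, B, hb, hB⟩ := exists_scaled_lift p B₀
  obtain ⟨c, C, hc, hC⟩ := exists_scaled_lift p C₀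
  refine ⟨B, C, fun hmem => ?_⟩
  have h0 := Ideal.algebraMap_residueField_eq_zero.mpr hmem
  rw [RingHom.map_det, RingHom.mapMatrix_apply, Matrix.map_mul, Matrix.map_mul, hB, hC,
    Matrix.smul_mul, Matrix.smul_mul, Matrix.mul_smul, hBC, smul_smul, Matrix.det_smul,
    Matrix.det_one, mul_one] at h0
  rcases mul_eq_zero.mp (eq_zero_of_pow_eq_zero h0) with h | h
  · exact hb (Ideal.algebraMap_residueField_eq_zero.mp h)
  · exact hc (Ideal.algebraMap_residueField_eq_zero.mp h)

theorem le_rk_of_det_not_mem (p : Ideal A) [p.IsPrime] {m : ℕ} (G : Matrix (Fin n) (Fin m) A)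
    {s : ℕ} (B : Matrix (Fin s) (Fin n) A) (C : Matrix (Fin m) (Fin s) A)
    (h : (B * G * C).det ∉ p) : s ≤ rk p G := by
  have h0 : ((B * G * C).map (algebraMap A p.ResidueField)).det ≠ 0 := by
    rw [← RingHom.mapMatrix_apply, ← RingHom.map_det, Ne, Ideal.algebraMap_residueField_eq_zero]
    exact h
  have h1 := Matrix.rank_of_det_ne_zero h0
  rw [Fintype.card_fin, Matrix.map_mul, Matrix.map_mul] at h1
  calc s = _ := h1.symm
    _ ≤ _ := (Matrix.rank_mul_le_left _ _).trans (Matrix.rank_mul_le_right _ _)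

theorem minorIdeal_le_iff (p : Ideal A) [p.IsPrime] {m : ℕ} (G : Matrix (Fin n) (Fin m) A)
    (s : ℕ) : minorIdeal s G ≤ p ↔ rk p G < s := by
  constructor
  · intro h
    by_contra hh
    obtain ⟨B, C, hBC⟩ := exists_det_not_mem p G s (not_lt.mp hh)
    exact hBC (h (Ideal.subset_span ⟨B, C, rfl⟩))
  · intro h
    rw [minorIdeal, Ideal.span_le]
    rintro d ⟨B, C, rfl⟩
    by_contra hd
    exact absurd (le_rk_of_det_not_mem p G B C hd) (not_le.mpr h)

/-- Prime avoidance for affine-linear conditions. -/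
theorem exists_avoid {t : ℕ} (P : Finset (PrimeSpectrum A))
    (c : ∀ p : PrimeSpectrum A, Fin (t + 1) → p.asIdeal.ResidueField)
    (hc : ∀ p ∈ P, c p ≠ 0) :
    ∃ a : Fin t → A, ∀ p ∈ P, c p (Fin.last t) -
      ∑ j, algebraMap A p.asIdeal.ResidueField (a j) * c p j.castSucc ≠ 0 := by
  classical
  induction P using Finset.strongInduction with
  | _ P ih =>
    rcases P.eq_empty_or_nonempty with rfl | hne
    · exact ⟨0, by simp⟩
    obtain ⟨p, hpP, hpmin⟩ := P.exists_minimal hne
    obtain ⟨a, ha⟩ := ih (P.erase p) (Finset.erase_ssubset hpP)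
      (fun q hq => hc q (Finset.mem_of_mem_erase hq))
    by_cases hgood : c p (Fin.last t) -
        ∑ j, algebraMap A p.asIdeal.ResidueField (a j) * c p j.castSucc ≠ 0
    · refine ⟨a, fun q hq => ?_⟩
      by_cases hqp : q = p
      · subst hqp; exact hgood
      · exact ha q (Finset.mem_erase.mpr ⟨hqp, hq⟩)
    · push Not at hgood
      obtain ⟨i, hi⟩ : ∃ i : Fin t, c p i.castSucc ≠ 0 := by
        by_contra hh
        push Not at hh
        apply hc p hpP
        funext j
        induction j using Fin.lastCases with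
        | last => simpa [hh] using hgood
        | cast j => exact hh j
      have hex : ∀ q ∈ P.erase p, ∃ s, s ∈ q.asIdeal ∧ s ∉ p.asIdeal := by
        intro q hq
        refine SetLike.not_le_iff_exists.mp fun hle => ?_
        exact (Finset.mem_erase.mp hq).1
          (le_antisymm hle (hpmin (Finset.mem_of_mem_erase hq) hle))
      choose s hsq hsp using hex
      set S := ∏ q ∈ (P.erase p).attach, s q.1 q.2 with hS
      have hSp : S ∉ p.asIdeal := fun h => by
        obtain ⟨q, -, hq⟩ := (Ideal.IsPrime.prod_mem_iff.mp h)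
        exact hsp _ _ hq
      have key : ∀ q : PrimeSpectrum A, c q (Fin.last t) -
          ∑ j : Fin t, algebraMap A q.asIdeal.ResidueField ((a + Pi.single i S : Fin t → A) j) * c q j.castSucc =
          (c q (Fin.last t) - ∑ j, algebraMap A q.asIdeal.ResidueField (a j) * c q j.castSucc) -
            algebraMap A q.asIdeal.ResidueField S * c q i.castSucc := by
        intro q
        simp only [Pi.add_apply, map_add, add_mul, Finset.sum_add_distrib, sub_sub]
        congr 2
        rw [Finset.sum_eq_single i]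
        · simp
        · intro j _ hj; simp [hj]
        · simp
      refine ⟨a + Pi.single i S, fun q hq => ?_⟩
      rw [key]
      by_cases hqp : q = p
      · subst hqp
        rw [hgood, zero_sub, neg_ne_zero]
        exact mul_ne_zero (fun h => hSp (Ideal.algebraMap_residueField_eq_zero.mp h)) hi
      · have hq' := Finset.mem_erase.mpr ⟨hqp, hq⟩
        have : S ∈ q.asIdeal := by
          rw [hS]
          exact Ideal.IsPrime.prod_mem_iff.mpr ⟨⟨q, hq'⟩, Finset.mem_attach _ _, hsq q hq'⟩
        rw [Ideal.algebraMap_residueField_eq_zero.mpr this, zero_mul, sub_zero]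
        exact ha q hq'

/-- One elimination step keeping the general position invariant. -/
theorem step [IsNoetherianRing A] (k r : ℕ) (hkr : k ≤ r) {t : ℕ}
    (G : Matrix (Fin n) (Fin (t + 1)) A)
    (hG : ∀ p : PrimeSpectrum A, p.asIdeal.height ≤ k →
      min (t + 1) (r - p.asIdeal.height.toNat) ≤ rk p.asIdeal G) :
    ∃ a : Fin t → A, ∀ p : PrimeSpectrum A, p.asIdeal.height ≤ k →
      min t (r - p.asIdeal.height.toNat) ≤ rk p.asIdeal (G * elim a) := by
  classical
  have hfin : {p : PrimeSpectrum A | ∃ j ≤ t, p.asIdeal ∈ (minorIdeal (j + 1) G).minimalPrimes ∧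
      rk p.asIdeal G ≤ t}.Finite := by
    refine Set.Finite.subset ((Set.finite_Iic t).biUnion fun j _ =>
      ((minorIdeal (j + 1) G).finite_minimalPrimes_of_isNoetherianRing).preimage
        (fun x _ y _ h => PrimeSpectrum.ext h)) ?_
    rintro p ⟨j, hj, hp, -⟩
    exact Set.mem_biUnion (x := j) hj hp
  have hker : ∀ p : PrimeSpectrum A, ∃ c : Fin (t + 1) → p.asIdeal.ResidueField,
      rk p.asIdeal G ≤ t → (c ≠ 0 ∧ G.map (algebraMap A p.asIdeal.ResidueField) *ᵥ c = 0) := by
    intro p
    by_cases h : rk p.asIdeal G ≤ t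
    · obtain ⟨c, hc⟩ := exists_kernel_vector _ h
      exact ⟨c, fun _ => hc⟩
    · exact ⟨0, fun h' => absurd h' h⟩
  choose c hc using hker
  obtain ⟨a, ha⟩ := exists_avoid hfin.toFinset c (fun p hp => by
    obtain ⟨j, -, -, hp⟩ := hfin.mem_toFinset.mp hp
    exact (hc p hp).1)
  refine ⟨a, fun p hp => ?_⟩
  have hmap : (G * elim a).map (algebraMap A p.asIdeal.ResidueField) =
      G.map (algebraMap A p.asIdeal.ResidueField) *
        elim (fun j => algebraMap A p.asIdeal.ResidueField (a j)) := by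
    rw [Matrix.map_mul, elim_map]
  have h1 : rk p.asIdeal G ≤ rk p.asIdeal (G * elim a) + 1 := by
    rw [rk, rk, hmap]
    exact rank_le_rank_mul_elim_add_one _ _
  have hGp := hG p hp
  by_cases hbig : min t (r - p.asIdeal.height.toNat) < rk p.asIdeal G
  · omega
  -- now `rk = r - height ≤ t`
  have hR : rk p.asIdeal G = r - p.asIdeal.height.toNat ∧ r - p.asIdeal.height.toNat ≤ t := by omega
  set R := rk p.asIdeal G with hRdef
  obtain ⟨q, hqmin, hqp⟩ := Ideal.exists_minimalPrimes_le
    ((minorIdeal_le_iff p.asIdeal G (R + 1)).mpr (Nat.lt_succ_self R))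
  haveI : q.IsPrime := hqmin.1.1
  have hqeq : q = p.asIdeal := by
    by_contra hne
    have hlt : q.height < p.asIdeal.height :=
      Ideal.height_strict_mono_of_isPrime (lt_of_le_of_ne hqp hne)
    have hqk : q.height ≤ k := hlt.le.trans hp
    have hqG : min (t + 1) (r - q.height.toNat) ≤ rk q G := hG ⟨q, inferInstance⟩ hqk
    have hqR : rk q G < R + 1 := (minorIdeal_le_iff q G (R + 1)).mp hqmin.1.2
    obtain ⟨a', ha'⟩ := ENat.ne_top_iff_exists.mp
      (ne_top_of_le_ne_top (ENat.coe_ne_top k) hqk)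
    obtain ⟨b', hb'⟩ := ENat.ne_top_iff_exists.mp
      (ne_top_of_le_ne_top (ENat.coe_ne_top k) hp)
    rw [← ha', ← hb', Nat.cast_lt] at hlt
    rw [← ha', ENat.toNat_coe] at hqG
    have := hR.1
    rw [← hb', ENat.toNat_coe] at this
    have := hR.2
    have hb'k : b' ≤ k := by rw [← hb'] at hp; exact_mod_cast hp
    omega
  have hmemP : p ∈ hfin.toFinset := by
    rw [hfin.mem_toFinset]
    exact ⟨R, by omega, hqeq ▸ hqmin, by omega⟩
  have h2 : R ≤ rk p.asIdeal (G * elim a) := by
    rw [hRdef, rk, rk, hmap]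
    exact rank_le_rank_mul_elim _ _ (c p) (hc p (by omega)).2 (ha p hmemP)
  omega

theorem iterate [IsNoetherianRing A] (k r : ℕ) (hkr : k ≤ r) (s : ℕ) :
    ∀ (d : ℕ) (G : Matrix (Fin n) (Fin (s + d)) A),
      (∀ p : PrimeSpectrum A, p.asIdeal.height ≤ k →
        min (s + d) (r - p.asIdeal.height.toNat) ≤ rk p.asIdeal G) →
      ∃ E : Matrix (Fin (s + d)) (Fin s) A, ∀ p : PrimeSpectrum A, p.asIdeal.height ≤ k →
        min s (r - p.asIdeal.height.toNat) ≤ rk p.asIdeal (G * E)
  | 0, G, hG => ⟨1, fun p hp => by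
      show _ ≤ rk p.asIdeal (G * (1 : Matrix (Fin s) (Fin s) A))
      rw [Matrix.mul_one]
      exact hG p hp⟩
  | d + 1, G, hG => by
      obtain ⟨a, ha⟩ := step k r hkr (t := s + d) G hG
      obtain ⟨E, hE⟩ := iterate k r hkr s d (G * elim a) ha
      exact ⟨elim a * E, fun p hp => by rw [← Matrix.mul_assoc]; exact hE p hp⟩

end ring

end Groth.Agent.GenPosLib
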